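import Mathlib

/-!
# Carmichael's generators and relations of the alternating groups
-/

set_option autoImplicit false

namespace Cfsg.Lib.Linear.ShortPres.Alt

open Equiv

variable {ι : Type*} [DecidableEq ι]

/-- The three-cycle through the two extra points and `i`. -/
def cyc (i : ι) : Perm (ι ⊕ Fin 2) := swap (Sum.inr 0) (Sum.inr 1) * swap (Sum.inr 1) (Sum.inl i)

theorem cyc_inr_zero (i : ι) : cyc i (Sum.inr 0) = Sum.inr 1 := by simp [cyc, swap_apply_def]

theorem cyc_inr_one (i : ι) : cyc i (Sum.inr 1) = Sum.inl i := by simp [cyc, swap_apply_def]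

theorem cyc_inl_self (i : ι) : cyc i (Sum.inl i) = Sum.inr 0 := by simp [cyc, swap_apply_def]

theorem cyc_inl_of_ne {i k : ι} (h : k ≠ i) : cyc i (Sum.inl k) = Sum.inl k := by
  simp [cyc, swap_apply_def, h]

theorem cyc_pow_three (i : ι) : cyc i ^ 3 = 1 := by
  refine Equiv.ext fun x => ?_
  rw [pow_succ, pow_two, Perm.mul_apply, Perm.mul_apply, Perm.one_apply]
  rcases x with k | b
  · rcases eq_or_ne k i with rfl | h
    · rw [cyc_inl_self, cyc_inr_zero, cyc_inr_one]
    · rw [cyc_inl_of_ne h, cyc_inl_of_ne h, cyc_inl_of_ne h]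
  · fin_cases b
    · simp [cyc_inr_zero, cyc_inr_one, cyc_inl_self]
    · simp [cyc_inr_zero, cyc_inr_one, cyc_inl_self]

theorem cyc_inv (i : ι) : (cyc i)⁻¹ = cyc i * cyc i := inv_eq_of_mul_eq_one_left (by
  rw [← pow_two, ← pow_succ, cyc_pow_three])

theorem cyc_pair {i j : ι} (h : i ≠ j) : (cyc i * cyc j) ^ 2 = 1 := by
  refine Equiv.ext fun x => ?_
  rw [pow_two, Perm.mul_apply, Perm.mul_apply, Perm.mul_apply, Perm.one_apply]
  rcases x with k | b
  · rcases eq_or_ne k j with rfl | hj
    · simp [cyc_inl_self, cyc_inr_zero, cyc_inr_one, cyc_inl_of_ne h, cyc_inl_of_ne h.symm]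
    · rcases eq_or_ne k i with rfl | hi
      · simp [cyc_inl_self, cyc_inr_zero, cyc_inr_one, cyc_inl_of_ne h, cyc_inl_of_ne h.symm]
      · simp [cyc_inl_of_ne hi, cyc_inl_of_ne hj]
  · fin_cases b <;> simp [cyc_inl_self, cyc_inr_zero, cyc_inr_one, cyc_inl_of_ne h, cyc_inl_of_ne h.symm]

theorem conj_cyc {π : Perm (ι ⊕ Fin 2)} (hπ : ∀ b, π (Sum.inr b) = Sum.inr b) {i j : ι}
    (hij : π (Sum.inl i) = Sum.inl j) : π * cyc i * π⁻¹ = cyc j := by
  have e1 : π * swap (Sum.inr 0) (Sum.inr 1) = swap (Sum.inr 0) (Sum.inr 1) * π := by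
    rw [mul_swap_eq_swap_mul, hπ, hπ]
  have e2 : π * swap (Sum.inr 1) (Sum.inl i) = swap (Sum.inr 1) (Sum.inl j) * π := by
    rw [mul_swap_eq_swap_mul, hπ, hij]
  rw [mul_inv_eq_iff_eq_mul, cyc, cyc, ← mul_assoc, e1, mul_assoc, e2, mul_assoc]

variable [Fintype ι]

theorem sign_cyc (i : ι) : Perm.sign (cyc i) = 1 := by
  rw [cyc, Perm.sign_mul, Perm.sign_swap (by simp), Perm.sign_swap (by simp)]
  rfl

theorem cyc_mem (i : ι) : cyc i ∈ alternatingGroup (ι ⊕ Fin 2) := Perm.mem_alternatingGroup.2 (sign_cyc i)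

/-- The three-cycle as an element of the alternating group. -/
def cycA (i : ι) : alternatingGroup (ι ⊕ Fin 2) := ⟨cyc i, cyc_mem i⟩

theorem cycA_coe (i : ι) : (cycA i : Perm (ι ⊕ Fin 2)) = cyc i := rfl

theorem closure_cycA : Subgroup.closure (Set.range (cycA (ι := ι))) = ⊤ := by
  classical
  suffices key : ∀ (s : Finset ι) (g : Perm (ι ⊕ Fin 2)), Perm.sign g = 1 → (∀ k ∉ s, g (Sum.inl k) = Sum.inl k) →
      g ∈ Subgroup.closure (Set.range (cyc (ι := ι))) by
    refine Subgroup.map_injective (alternatingGroup (ι ⊕ Fin 2)).subtype_injective ?_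
    rw [MonoidHom.map_closure, ← MonoidHom.range_eq_map, Subgroup.range_subtype]
    refine le_antisymm ?_ fun g hg => ?_
    · rw [Subgroup.closure_le]
      rintro _ ⟨_, ⟨i, rfl⟩, rfl⟩
      exact cyc_mem i
    · have h := key Finset.univ g (Perm.mem_alternatingGroup.1 hg) fun k hk => absurd (Finset.mem_univ k) hk
      rwa [← Set.range_comp]
  intro s
  induction s using Finset.induction with
  | empty =>
    intro g hg hfix
    suffices g = 1 by rw [this]; exact one_mem _
    by_contra hne
    have hsub : g.support ⊆ {Sum.inr 0, Sum.inr 1} := by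
      intro x hx
      rw [Perm.mem_support] at hx
      rcases x with k | b
      · exact absurd (hfix k (Finset.notMem_empty k)) hx
      · fin_cases b <;> simp
    have hcard := (Finset.card_le_card hsub).trans Finset.card_le_two
    have h2 : g.support.card = 2 := le_antisymm hcard (Perm.two_le_card_support_of_ne_one hne)
    rw [(Perm.card_support_eq_two.1 h2).sign_eq] at hg
    exact absurd hg (by decide)
  | insert m s hm ih =>
    intro g hg hfix
    obtain ⟨k, hk, hkm, hkfix⟩ : ∃ k ∈ Subgroup.closure (Set.range (cyc (ι := ι))), k (Sum.inl m) = g (Sum.inl m) ∧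
        ∀ l ∉ insert m s, k (Sum.inl l) = Sum.inl l := by
      have hc : ∀ i, cyc i ∈ Subgroup.closure (Set.range (cyc (ι := ι))) := fun i => Subgroup.subset_closure ⟨i, rfl⟩
      rcases hgm : g (Sum.inl m) with l | b
      · rcases eq_or_ne l m with rfl | hlm
        · exact ⟨1, one_mem _, rfl, fun _ _ => rfl⟩
        · have hl : l ∈ insert m s := by
            by_contra hl
            exact hlm (Sum.inl_injective (g.injective ((hfix l hl).trans hgm.symm)))
          refine ⟨cyc l * (cyc m)⁻¹, mul_mem (hc l) (inv_mem (hc m)), ?_, fun r hr => ?_⟩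
          · rw [cyc_inv, Perm.mul_apply, Perm.mul_apply, cyc_inl_self, cyc_inr_zero, cyc_inr_one]
          · have hrl : r ≠ l := fun h => hr (h ▸ hl)
            have hrm : r ≠ m := fun h => hr (h ▸ Finset.mem_insert_self m s)
            rw [cyc_inv, Perm.mul_apply, Perm.mul_apply, cyc_inl_of_ne hrm, cyc_inl_of_ne hrm, cyc_inl_of_ne hrl]
      · have hrm : ∀ r ∉ insert m s, r ≠ m := fun r hr h => hr (h ▸ Finset.mem_insert_self m s)
        fin_cases b
        · exact ⟨cyc m, hc m, by simp [cyc_inl_self], fun r hr => cyc_inl_of_ne (hrm r hr)⟩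
        · exact ⟨cyc m * cyc m, mul_mem (hc m) (hc m), by simp [cyc_inl_self, cyc_inr_zero],
            fun r hr => by rw [Perm.mul_apply, cyc_inl_of_ne (hrm r hr), cyc_inl_of_ne (hrm r hr)]⟩
    have hsgn : ∀ x ∈ Subgroup.closure (Set.range (cyc (ι := ι))), Perm.sign x = 1 := by
      intro x hx
      induction hx using Subgroup.closure_induction with
      | mem y hy => obtain ⟨i, rfl⟩ := hy; exact sign_cyc i
      | one => simp
      | mul a b _ _ ha hb => rw [Perm.sign_mul, ha, hb, one_mul]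
      | inv a _ ha => rw [Perm.sign_inv, ha]
    have h' : k⁻¹ * g ∈ Subgroup.closure (Set.range (cyc (ι := ι))) := by
      refine ih _ (by rw [Perm.sign_mul, Perm.sign_inv, hsgn k hk, hg]; rfl) fun r hr => ?_
      rw [Perm.mul_apply, Perm.inv_eq_iff_eq]
      rcases eq_or_ne r m with rfl | hrm
      · exact hkm.symm
      · have : r ∉ insert m s := by simp [hrm, hr]
        rw [hfix r this, hkfix r this]
    have := mul_mem hk h'
    rwa [mul_inv_cancel_left] at this

omit [DecidableEq ι] [Fintype ι] in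
/-- A group generated by elements satisfying Carmichael's relations is no larger than the alternating group. -/
theorem card_le_aux {G : Type*} [Group G] (x : ι → G) (h3 : ∀ i, x i ^ 3 = 1)
    (h2 : ∀ i j, i ≠ j → (x i * x j) ^ 2 = 1) (s : Finset ι) :
    Finite (Subgroup.closure (x '' (s : Set ι))) ∧
      2 * Nat.card (Subgroup.closure (x '' (s : Set ι))) ≤ (s.card + 2).factorial := by
  classical
  have hi : ∀ i, (x i)⁻¹ = x i * x i := fun i => inv_eq_of_mul_eq_one_left (by
    rw [← pow_two, ← pow_succ, h3])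
  have hsw : ∀ i j, i ≠ j → x i * x j = (x j)⁻¹ * (x i)⁻¹ := fun i j h => by
    rw [← _root_.mul_inv_rev]
    exact eq_inv_of_mul_eq_one_left (by rw [← pow_two, h2 i j h])
  induction s using Finset.induction with
  | empty =>
    rw [Finset.coe_empty, Set.image_empty, Subgroup.closure_empty]
    exact ⟨inferInstance, by simp⟩
  | insert m s hm ih =>
    obtain ⟨hfin, hle⟩ := ih
    set H := Subgroup.closure (x '' (s : Set ι)) with hH
    set K := Subgroup.closure (x '' ((insert m s : Finset ι) : Set ι)) with hK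
    let rep : Fin 3 ⊕ s → G := Sum.elim ![1, x m, (x m)⁻¹] (fun j => (x m)⁻¹ * x j.1)
    let S : G → Prop := fun g => ∃ h ∈ H, ∃ c, g = h * rep c
    have hne : ∀ j : s, j.1 ≠ m := fun j h => hm (h ▸ j.2)
    have hmemH : ∀ j : s, x j.1 ∈ H := fun j => Subgroup.subset_closure ⟨j.1, Finset.mem_coe.2 j.2, rfl⟩
    have hstep : ∀ c : Fin 3 ⊕ s, ∀ k ∈ insert m s, S (rep c * x k) := by
      intro c k hk
      rcases Finset.mem_insert.1 hk with rfl | hks
      · rcases c with c | j
        · fin_cases c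
          · exact ⟨1, one_mem _, Sum.inl 1, by simp [rep]⟩
          · exact ⟨1, one_mem _, Sum.inl 2, by simp [rep, hi]⟩
          · exact ⟨1, one_mem _, Sum.inl 0, by simp [rep]⟩
        · refine ⟨(x j.1)⁻¹, inv_mem (hmemH j), Sum.inr j, ?_⟩
          simp only [rep, Sum.elim_inr]
          have e1 : (x k)⁻¹ * x j.1 * x k = x k * (x j.1)⁻¹ := by
            rw [mul_assoc, hsw j.1 k (hne j), ← mul_assoc, hi k]
            have : x k * x k * (x k * x k) = x k := by
              rw [← mul_assoc, ← pow_two, ← pow_succ, h3, one_mul]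
            rw [this]
          have e2 : x k * (x j.1)⁻¹ = (x j.1)⁻¹ * ((x k)⁻¹ * x j.1) := by
            rw [hi j.1, ← mul_assoc, hsw k j.1 (hne j).symm, ← hi j.1]
            simp [mul_assoc]
          rw [e1, e2]
      · have hkm : k ≠ m := fun h => hm (h ▸ hks)
        have hkH : x k ∈ H := Subgroup.subset_closure ⟨k, Finset.mem_coe.2 hks, rfl⟩
        rcases c with c | j
        · fin_cases c
          · exact ⟨x k, hkH, Sum.inl 0, by simp [rep]⟩
          · exact ⟨(x k)⁻¹, inv_mem hkH, Sum.inl 2, by simpa [rep] using hsw m k hkm.symm⟩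
          · exact ⟨1, one_mem _, Sum.inr ⟨k, hks⟩, by simp [rep]⟩
        · simp only [rep, Sum.elim_inr]
          rcases eq_or_ne j.1 k with rfl | hjk
          · refine ⟨x j.1, hkH, Sum.inl 1, ?_⟩
            simp only [rep, Sum.elim_inl, Matrix.cons_val_one, Matrix.cons_val_zero]
            rw [mul_assoc, ← hi, hsw j.1 m (hne j)]
          · refine ⟨x k * (x j.1)⁻¹, mul_mem hkH (inv_mem (hmemH j)), Sum.inr j, ?_⟩
            simp only [rep, Sum.elim_inr]
            have e2 : x m * (x j.1)⁻¹ = (x j.1)⁻¹ * ((x m)⁻¹ * x j.1) := by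
              rw [hi j.1, ← mul_assoc, hsw m j.1 (hne j).symm, ← hi j.1]
              simp [mul_assoc]
            rw [mul_assoc (x m)⁻¹, hsw j.1 k hjk, ← mul_assoc (x m)⁻¹, mul_assoc (x k), ← e2, ← mul_assoc,
              hsw k m hkm]
    have hmul : ∀ g, S g → ∀ k ∈ insert m s, S (g * x k) := by
      rintro _ ⟨h, hh, c, rfl⟩ k hk
      obtain ⟨h', hh', c', e⟩ := hstep c k hk
      exact ⟨h * h', mul_mem hh hh', c', by rw [mul_assoc, e, mul_assoc]⟩
    have hall : ∀ g ∈ K, S g := by
      intro g hg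
      induction hg using Subgroup.closure_induction_right with
      | one => exact ⟨1, one_mem _, Sum.inl 0, by simp [rep]⟩
      | mul_right y hy z hz ihy =>
        obtain ⟨k, hk, rfl⟩ := hz
        exact hmul y ihy k (Finset.mem_coe.1 hk)
      | mul_inv_cancel y hy z hz ihy =>
        obtain ⟨k, hk, rfl⟩ := hz
        rw [hi, ← mul_assoc]
        exact hmul _ (hmul y ihy k (Finset.mem_coe.1 hk)) k (Finset.mem_coe.1 hk)
    have hrep : ∀ c, rep c ∈ K := by
      have hxm : x m ∈ K := Subgroup.subset_closure ⟨m, Finset.mem_coe.2 (Finset.mem_insert_self m s), rfl⟩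
      rintro (c | j)
      · fin_cases c
        · simp [rep]
        · simpa [rep] using hxm
        · simpa [rep] using inv_mem hxm
      · exact mul_mem (inv_mem hxm) (Subgroup.subset_closure ⟨j.1, Finset.mem_coe.2 (Finset.mem_insert_of_mem j.2), rfl⟩)
    have hHK : H ≤ K := Subgroup.closure_mono (Set.image_mono (by simp))
    let Φ : H × (Fin 3 ⊕ s) → K := fun z => ⟨z.1.1 * rep z.2, mul_mem (hHK z.1.2) (hrep z.2)⟩
    have hΦ : Function.Surjective Φ := by
      rintro ⟨g, hg⟩
      obtain ⟨h, hh, c, rfl⟩ := hall g hg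
      exact ⟨(⟨h, hh⟩, c), rfl⟩
    haveI := hfin
    refine ⟨Finite.of_surjective Φ hΦ, ?_⟩
    have hc : Nat.card (Fin 3 ⊕ s) = s.card + 3 := by
      rw [Nat.card_sum, Nat.card_fin, Nat.card_eq_finsetCard, add_comm]
    calc 2 * Nat.card K ≤ 2 * (Nat.card H * Nat.card (Fin 3 ⊕ s)) :=
          Nat.mul_le_mul_left _ (le_of_le_of_eq (Nat.card_le_card_of_surjective Φ hΦ) (Nat.card_prod _ _))
      _ = 2 * Nat.card H * (s.card + 3) := by rw [hc, mul_assoc]
      _ ≤ (s.card + 2).factorial * (s.card + 3) := Nat.mul_le_mul_right _ hle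
      _ = ((insert m s : Finset ι).card + 2).factorial := by
          rw [Finset.card_insert_of_notMem hm, mul_comm]
          exact (Nat.factorial_succ _).symm

theorem card_le {G : Type*} [Group G] (x : ι → G) (hgen : Subgroup.closure (Set.range x) = ⊤)
    (h3 : ∀ i, x i ^ 3 = 1) (h2 : ∀ i j, i ≠ j → (x i * x j) ^ 2 = 1) :
    Finite G ∧ Nat.card G ≤ Nat.card (alternatingGroup (ι ⊕ Fin 2)) := by
  obtain ⟨hf, hle⟩ := card_le_aux x h3 h2 Finset.univ
  rw [Finset.coe_univ, Set.image_univ, hgen] at hf hle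
  haveI := hf
  have hG : Finite G := Finite.of_equiv _ Subgroup.topEquiv.toEquiv
  refine ⟨hG, ?_⟩
  rw [Subgroup.card_top, Finset.card_univ] at hle
  have hn : 1 < Nat.card (ι ⊕ Fin 2) := by
    rw [Nat.card_sum, Nat.card_fin]; omega
  haveI : Nontrivial (ι ⊕ Fin 2) := Finite.one_lt_card_iff_nontrivial.1 hn
  have h2A : 2 * Nat.card (alternatingGroup (ι ⊕ Fin 2)) = (Fintype.card ι + 2).factorial := by
    rw [two_mul_nat_card_alternatingGroup, Nat.card_perm, Nat.card_eq_fintype_card, Fintype.card_sum,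
      Fintype.card_fin]
  omega

/-- Relabelling the points. -/
theorem nonempty_congr {α β : Type*} [Fintype α] [DecidableEq α] [Fintype β] [DecidableEq β] (e : α ≃ β) :
    ∃ f : alternatingGroup α ≃* alternatingGroup β, ∀ g, (f g : Perm β) = e.permCongr g.1 :=
  ⟨{ toFun := fun g => ⟨e.permCongr g.1, Perm.mem_alternatingGroup.2 (by
        rw [Perm.sign_permCongr]; exact Perm.mem_alternatingGroup.1 g.2)⟩
     invFun := fun g => ⟨e.symm.permCongr g.1, Perm.mem_alternatingGroup.2 (by
        rw [Perm.sign_permCongr]; exact Perm.mem_alternatingGroup.1 g.2)⟩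
     left_inv := fun g => Subtype.ext (Equiv.ext fun x => by simp)
     right_inv := fun g => Subtype.ext (Equiv.ext fun x => by simp)
     map_mul' := fun g h => Subtype.ext (Equiv.ext fun x => by simp) }, fun _ => rfl⟩

/-- Alternating groups are generated by two elements. -/
theorem two_gen (α : Type*) [Fintype α] [DecidableEq α] :
    ∃ a b : alternatingGroup α, Subgroup.closure ({a, b} : Set (alternatingGroup α)) = ⊤ := by
  rcases Nat.lt_or_ge (Fintype.card α) 3 with hlt | hge
  · refine ⟨1, 1, eq_top_iff.2 fun g _ => ?_⟩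
    suffices g = 1 by rw [this]; exact one_mem _
    refine Subtype.ext ?_
    by_contra hne
    have h2 := Perm.two_le_card_support_of_ne_one (f := (g : Perm α)) hne
    have h3 := Finset.card_le_univ (g : Perm α).support
    have hc : (g : Perm α).support.card = 2 := by omega
    have hs := Perm.mem_alternatingGroup.1 g.2
    rw [(Perm.card_support_eq_two.1 hc).sign_eq] at hs
    exact absurd hs (by decide)
  obtain ⟨m, hm⟩ : ∃ m, Fintype.card α = (m + 1) + 2 := ⟨Fintype.card α - 3, by omega⟩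
  let e : α ≃ Fin (m + 1) ⊕ Fin 2 := (Fintype.equivFinOfCardEq hm).trans finSumFinEquiv.symm
  obtain ⟨f, -⟩ := nonempty_congr e.symm
  suffices ∃ a b : alternatingGroup (Fin (m + 1) ⊕ Fin 2), Subgroup.closure ({a, b} : Set _) = ⊤ by
    obtain ⟨a, b, hab⟩ := this
    refine ⟨f a, f b, ?_⟩
    rw [← Set.image_pair, ← MulEquiv.coe_toMonoidHom, ← MonoidHom.map_closure, hab]
    exact Subgroup.map_top_of_surjective _ f.surjective
  set τ : Perm (Fin 2) := if Even m then 1 else swap 0 1 with hτ
  have hsign : Perm.sign (Perm.sumCongr (finRotate (m + 1)) τ) = 1 := by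
    rw [Perm.sign_sumCongr, sign_finRotate, Nat.add_sub_cancel, hτ]
    rcases Nat.even_or_odd m with he | ho
    · rw [if_pos he, he.neg_one_pow, map_one, one_mul]
    · rw [if_neg (Nat.not_even_iff_odd.2 ho), ho.neg_one_pow, Perm.sign_swap (by decide)]
      rfl
  refine ⟨cycA 0, ⟨_, Perm.mem_alternatingGroup.2 hsign⟩, ?_⟩
  set W := Subgroup.closure ({cycA 0, ⟨_, Perm.mem_alternatingGroup.2 hsign⟩} :
    Set (alternatingGroup (Fin (m + 1) ⊕ Fin 2))) with hW
  have hc : (⟨_, Perm.mem_alternatingGroup.2 hsign⟩ : alternatingGroup (Fin (m + 1) ⊕ Fin 2)) ∈ W :=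
    Subgroup.subset_closure (Or.inr rfl)
  rw [eq_top_iff, ← closure_cycA, Subgroup.closure_le]
  rintro _ ⟨i, rfl⟩
  induction i using Fin.induction with
  | zero => exact Subgroup.subset_closure (Or.inl rfl)
  | succ i ih =>
    set c : alternatingGroup (Fin (m + 1) ⊕ Fin 2) := ⟨_, Perm.mem_alternatingGroup.2 hsign⟩ with hcdef
    have hmem : c * cycA i.castSucc * c⁻¹ ∈ W := mul_mem (mul_mem hc ih) (inv_mem hc)
    set π := Perm.sumCongr (finRotate (m + 1)) τ
    have hπl : π (Sum.inl i.castSucc) = Sum.inl i.succ := by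
      simp [π, Equiv.sumCongr_apply, finRotate_succ_apply, Fin.coeSucc_eq_succ]
    have key : (c * cycA i.castSucc * c⁻¹ : alternatingGroup (Fin (m + 1) ⊕ Fin 2)) = cycA i.succ ∨
        (c * cycA i.castSucc * c⁻¹ : alternatingGroup (Fin (m + 1) ⊕ Fin 2)) = (cycA i.succ)⁻¹ := by
      rcases Nat.even_or_odd m with he | ho
      · refine Or.inl (Subtype.ext ?_)
        show π * cyc i.castSucc * π⁻¹ = cyc i.succ
        refine conj_cyc (fun b => ?_) hπl
        simp [π, hτ, if_pos he, Equiv.sumCongr_apply]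
      · refine Or.inr (Subtype.ext ?_)
        show π * cyc i.castSucc * π⁻¹ = (cyc i.succ)⁻¹
        have h0 : π (Sum.inr 0) = Sum.inr 1 := by
          simp [π, hτ, if_neg (Nat.not_even_iff_odd.2 ho), Equiv.sumCongr_apply]
        have h1 : π (Sum.inr 1) = Sum.inr 0 := by
          simp [π, hτ, if_neg (Nat.not_even_iff_odd.2 ho), Equiv.sumCongr_apply]
        have e1 : π * swap (Sum.inr 0) (Sum.inr 1) = swap (Sum.inr 0) (Sum.inr 1) * π := by
          rw [mul_swap_eq_swap_mul, h0, h1, swap_comm]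
        have e2 : π * swap (Sum.inr 1) (Sum.inl i.castSucc) = swap (Sum.inr 0) (Sum.inl i.succ) * π := by
          rw [mul_swap_eq_swap_mul, h1, hπl]
        have e3 : swap (Sum.inr 0) (Sum.inr 1) * swap (Sum.inr 0) (Sum.inl i.succ) =
            swap (Sum.inr 1) (Sum.inl i.succ) * swap (Sum.inr (0 : Fin 2)) (Sum.inr 1) := by
          rw [mul_swap_eq_swap_mul, swap_apply_left, swap_apply_of_ne_of_ne (by simp) (by simp)]
        rw [mul_inv_eq_iff_eq_mul, cyc, cyc, ← mul_assoc, e1, mul_assoc, e2, ← mul_assoc, e3, _root_.mul_inv_rev,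
          swap_inv, swap_inv]
    rcases key with h | h <;> rw [h] at hmem
    · exact hmem
    · simpa using inv_mem hmem

end Cfsg.Lib.Linear.ShortPres.Alt
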