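import Cfsg.Agent.Lib.Linear.ShortPres.Bdd
import Cfsg.Agent.Lib.Linear.ShortPres.Alt.Carmichael

/-!
# Alternating groups from doubly transitive groups
-/

set_option autoImplicit false

namespace Cfsg.Lib.Linear.ShortPres.Alt

open Equiv

variable {Γ : Type*} [Group Γ] [Finite Γ] {ι : Type*} [Fintype ι] [DecidableEq ι] [MulAction Γ ι]

/-- A doubly transitive group of even permutations with a presentation gives one of the alternating group on two
more points. -/
theorem bddG_of_doubly {k r : ℕ} (hΓ : BddG Γ k r) (i₀ : ι) (htr : ∀ i : ι, ∃ γ : Γ, γ • i₀ = i) (i₁ : ι) (h01 : i₁ ≠ i₀)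
    (hpair : ∀ i : ι, i ≠ i₀ → ∃ γ : Γ, γ • i₀ = i₀ ∧ γ • i₁ = i)
    (heven : ∀ γ : Γ, Perm.sign (MulAction.toPermHom Γ ι γ) = 1)
    (S : List Γ) (hS : ∀ γ : Γ, γ • i₀ = i₀ → γ ∈ Subgroup.closure {σ | σ ∈ S}) (hS' : ∀ σ ∈ S, σ • i₀ = i₀)
    (T : List Γ) (hT : Subgroup.closure {τ | τ ∈ T} = ⊤) :
    BddG (alternatingGroup (ι ⊕ Fin 2)) (k + 1) (r + 1 + (S.length + 1 + T.length)) := by
  classical
  choose g hg using htr
  let ρ : Γ →* alternatingGroup (ι ⊕ Fin 2) :=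
    MonoidHom.mk' (fun γ => ⟨Perm.sumCongr (MulAction.toPermHom Γ ι γ) 1, Perm.mem_alternatingGroup.2 (by
      rw [Perm.sign_sumCongr, heven, map_one, one_mul])⟩) fun a b => Subtype.ext (by
        show Perm.sumCongr _ (1 : Perm (Fin 2)) = Perm.sumCongr _ 1 * Perm.sumCongr _ 1
        rw [Perm.sumCongr_mul, one_mul, map_mul])
  have hρl : ∀ γ i, (ρ γ : Perm (ι ⊕ Fin 2)) (Sum.inl i) = Sum.inl (γ • i) := fun γ i => rfl
  have hρr : ∀ γ b, (ρ γ : Perm (ι ⊕ Fin 2)) (Sum.inr b) = Sum.inr b := fun γ b => rfl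
  have hρc : ∀ γ i, ρ γ * cycA i * (ρ γ)⁻¹ = cycA (γ • i) := fun γ i =>
    Subtype.ext (conj_cyc (hρr γ) (hρl γ i))
  set Z := Subgroup.zpowers (cycA i₀)
  let z : Z := ⟨cycA i₀, Subgroup.mem_zpowers _⟩
  have hz3 : z ^ 3 = 1 := Subtype.ext (Subtype.ext (cyc_pow_three i₀))
  have hZgen : Subgroup.closure ({z} : Set Z) = ⊤ := by
    rw [← Subgroup.zpowers_eq_closure, eq_top_iff]
    rintro ⟨w, hw⟩ -
    obtain ⟨n, rfl⟩ := Subgroup.mem_zpowers_iff.1 hw
    exact ⟨n, Subtype.ext (Subgroup.coe_zpow _ _ _)⟩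
  let O : Γ ⊕ Z → FreeGroup (Γ ⊕ Z) := FreeGroup.of
  let X : ι → FreeGroup (Γ ⊕ Z) := fun i => O (Sum.inl (g i)) * O (Sum.inr z) * (O (Sum.inl (g i)))⁻¹
  have hword : ∀ γ, ∃ w : FreeGroup ι, FreeGroup.lift cycA w = ρ γ := by
    intro γ
    have : ρ γ ∈ (FreeGroup.lift (cycA (ι := ι))).range := by
      rw [FreeGroup.range_lift_eq_closure, closure_cycA]; trivial
    exact this
  choose W hW using hword
  set L : List (FreeGroup (Γ ⊕ Z) × FreeGroup (Γ ⊕ Z)) :=
    (S.map fun σ => (O (Sum.inl σ) * O (Sum.inr z), O (Sum.inr z) * O (Sum.inl σ))) ++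
      [((O (Sum.inr z) * (O (Sum.inl (g i₁)) * O (Sum.inr z) * (O (Sum.inl (g i₁)))⁻¹)) ^ 2, 1)] ++
      T.map (fun τ => (O (Sum.inl τ), FreeGroup.lift X (W τ)))
  have hXM : (FreeGroup.lift (Sum.elim ρ Z.subtype)).comp (FreeGroup.lift X) = FreeGroup.lift cycA :=
    FreeGroup.ext_hom _ _ fun i => by
      simp only [MonoidHom.comp_apply, FreeGroup.lift_apply_of, X, O, map_mul, map_inv, Sum.elim_inl, Sum.elim_inr]
      show ρ (g i) * cycA i₀ * (ρ (g i))⁻¹ = cycA i
      rw [hρc, hg]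
  refine (hΓ.combine (Bdd.of_gen_one z hZgen) ρ Z.subtype ?_ L ?_ ?_).mono
    (by simp only [L, List.length_append, List.length_map, List.length_singleton]; omega)
  · rw [eq_top_iff, ← closure_cycA, Subgroup.closure_le]
    rintro _ ⟨i, rfl⟩
    have h := hρc (g i) i₀
    rw [hg] at h
    rw [← h]
    exact mul_mem (mul_mem (Subgroup.subset_closure (Or.inl ⟨_, rfl⟩)) (Subgroup.subset_closure (Or.inr ⟨z, rfl⟩)))
      (inv_mem (Subgroup.subset_closure (Or.inl ⟨_, rfl⟩)))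
  · intro e he
    simp only [L, List.mem_append, List.mem_map, List.mem_singleton] at he
    rcases he with (⟨σ, hσ, rfl⟩ | rfl) | ⟨τ, hτ, rfl⟩
    · simp only [O, map_mul, FreeGroup.lift_apply_of, Sum.elim_inl, Sum.elim_inr]
      have := hρc σ i₀
      rw [hS' σ hσ] at this
      exact mul_inv_eq_iff_eq_mul.1 this
    · simp only [O, map_pow, map_mul, map_inv, map_one, FreeGroup.lift_apply_of, Sum.elim_inl, Sum.elim_inr]
      show (cycA i₀ * (ρ (g i₁) * cycA i₀ * (ρ (g i₁))⁻¹)) ^ 2 = 1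
      rw [hρc, hg]
      exact Subtype.ext (cyc_pair h01.symm)
    · rw [← MonoidHom.comp_apply _ (FreeGroup.lift X), hXM, hW]
      simp [O]
  · intro G _ A B hgen hrel
    simp only [L, List.forall_mem_append, List.forall_mem_map, List.forall_mem_singleton] at hrel
    obtain ⟨⟨hcomm, hpairR⟩, hident⟩ := hrel
    simp only [O, map_pow, map_mul, map_inv, map_one, FreeGroup.lift_apply_of, Sum.elim_inl, Sum.elim_inr] at hcomm hpairR
    let x : ι → G := fun i => A (g i) * B z * (A (g i))⁻¹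
    have hXG : (FreeGroup.lift (Sum.elim A B)).comp (FreeGroup.lift X) = FreeGroup.lift x :=
      FreeGroup.ext_hom _ _ fun i => by simp [X, O, x]
    have hstab : ∀ γ : Γ, γ • i₀ = i₀ → A γ * B z * (A γ)⁻¹ = B z := by
      intro γ hγ
      have hle : Subgroup.closure {σ | σ ∈ S} ≤ (Subgroup.centralizer ({B z} : Set G)).comap A := by
        rw [Subgroup.closure_le]
        intro σ hσ
        rw [SetLike.mem_coe, Subgroup.mem_comap, Subgroup.mem_centralizer_singleton_iff]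
        exact hcomm σ hσ
      have := Subgroup.mem_centralizer_singleton_iff.1 (hle (hS γ hγ))
      exact mul_inv_eq_iff_eq_mul.2 this
    have hx : ∀ γ : Γ, A γ * B z * (A γ)⁻¹ = x (γ • i₀) := by
      intro γ
      have h := hstab ((g (γ • i₀))⁻¹ * γ) (by rw [mul_smul, inv_smul_eq_iff, hg])
      calc A γ * B z * (A γ)⁻¹ = A (g (γ • i₀)) * (A ((g (γ • i₀))⁻¹ * γ) * B z * (A ((g (γ • i₀))⁻¹ * γ))⁻¹) *
            (A (g (γ • i₀)))⁻¹ := by simp [mul_assoc]
        _ = _ := by rw [h]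
    have hequiv : ∀ γ i, A γ * x i * (A γ)⁻¹ = x (γ • i) := by
      intro γ i
      have := hx (γ * g i)
      rw [mul_smul, hg] at this
      rw [← this]
      simp [x, mul_assoc]
    have hx0 : x i₀ = B z := by
      have := hx 1
      simpa using this.symm
    refine card_le x ?_ (fun i => ?_) (fun i j hij => ?_)
    · have hA : ∀ γ, A γ ∈ Subgroup.closure (Set.range x) := by
        intro γ
        have hle : Subgroup.closure {τ | τ ∈ T} ≤ (Subgroup.closure (Set.range x)).comap A := by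
          rw [Subgroup.closure_le]
          intro τ hτ
          rw [SetLike.mem_coe, Subgroup.mem_comap, ← FreeGroup.range_lift_eq_closure]
          have h := hident τ hτ
          rw [← MonoidHom.comp_apply _ (FreeGroup.lift X), hXG] at h
          simp only [O, FreeGroup.lift_apply_of, Sum.elim_inl] at h
          exact ⟨W τ, h.symm⟩
        exact hle (hT ▸ Subgroup.mem_top γ)
      rw [eq_top_iff, ← hgen, Subgroup.closure_le]
      rintro _ (⟨γ, rfl⟩ | ⟨w, rfl⟩)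
      · exact hA γ
      · have hw : w ∈ Subgroup.closure ({z} : Set Z) := hZgen ▸ Subgroup.mem_top w
        have hle : Subgroup.closure ({z} : Set Z) ≤ (Subgroup.closure (Set.range x)).comap B := by
          rw [Subgroup.closure_le, Set.singleton_subset_iff, SetLike.mem_coe, Subgroup.mem_comap, ← hx0]
          exact Subgroup.subset_closure ⟨i₀, rfl⟩
        exact hle hw
    · simp only [x]
      rw [conj_pow, ← map_pow B, hz3, map_one, mul_one, mul_inv_cancel]
    · obtain ⟨γ, hγ0, hγ1⟩ := hpair ((g i)⁻¹ • j) (by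
        intro h
        exact hij.symm ((inv_smul_eq_iff.1 h).trans (hg i)))
      have h1 : A (g i * γ) * x i₀ * (A (g i * γ))⁻¹ = x i := by rw [hequiv, mul_smul, hγ0, hg]
      have h2 : A (g i * γ) * x i₁ * (A (g i * γ))⁻¹ = x j := by rw [hequiv, mul_smul, hγ1, smul_inv_smul]
      rw [← h1, ← h2, conj_mul, conj_pow, hx0]
      have : (B z * x i₁) ^ 2 = 1 := hpairR
      rw [this, mul_one, mul_inv_cancel]

/-- The same without counting generators. -/
theorem bdd_of_doubly {r : ℕ} (hΓ : Bdd Γ r) (i₀ : ι) (htr : ∀ i : ι, ∃ γ : Γ, γ • i₀ = i) (i₁ : ι) (h01 : i₁ ≠ i₀)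
    (hpair : ∀ i : ι, i ≠ i₀ → ∃ γ : Γ, γ • i₀ = i₀ ∧ γ • i₁ = i)
    (heven : ∀ γ : Γ, Perm.sign (MulAction.toPermHom Γ ι γ) = 1)
    (S : List Γ) (hS : ∀ γ : Γ, γ • i₀ = i₀ → γ ∈ Subgroup.closure {σ | σ ∈ S}) (hS' : ∀ σ ∈ S, σ • i₀ = i₀)
    (T : List Γ) (hT : Subgroup.closure {τ | τ ∈ T} = ⊤) :
    Bdd (alternatingGroup (ι ⊕ Fin 2)) (r + 1 + (S.length + 1 + T.length)) := by
  obtain ⟨k, hΓ⟩ := hΓ
  exact (bddG_of_doubly hΓ i₀ htr i₁ h01 hpair heven S hS hS' T hT).bdd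

end Cfsg.Lib.Linear.ShortPres.Alt
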