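import Cfsg.Agent.Lib.Linear.ShortPres.Alt.Line

/-!
# Every alternating group has a presentation with boundedly many relators
-/

set_option autoImplicit false

namespace Cfsg.Lib.Linear.ShortPres.Alt

open Equiv

section Ext

variable {α β : Type*} [Fintype α] [DecidableEq α] [Fintype β] [DecidableEq β]

/-- Extension along an embedding of the points. -/
noncomputable def extA (e : α ↪ β) : alternatingGroup α →* alternatingGroup β :=
  MonoidHom.mk' (fun g => ⟨Perm.extendDomain g.1 (Equiv.ofInjective e e.injective),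
    Perm.mem_alternatingGroup.2 (by rw [Perm.sign_extendDomain]; exact Perm.mem_alternatingGroup.1 g.2)⟩)
    fun a b => Subtype.ext (map_mul (Perm.extendDomainHom (Equiv.ofInjective e e.injective)) a.1 b.1)

theorem extA_apply (e : α ↪ β) (g : alternatingGroup α) (a : α) :
    (extA e g : Perm β) (e a) = e (g.1 a) := by
  exact Perm.extendDomain_apply_image g.1 (Equiv.ofInjective e e.injective) a

theorem extA_apply_of_notMem (e : α ↪ β) (g : alternatingGroup α) {b : β} (hb : b ∉ Set.range e) :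
    (extA e g : Perm β) b = b := by
  exact Perm.extendDomain_apply_not_subtype g.1 (Equiv.ofInjective e e.injective) hb

theorem extA_ext {e : α ↪ β} {g : alternatingGroup α} {x : alternatingGroup β}
    (h1 : ∀ a, (x : Perm β) (e a) = e (g.1 a)) (h2 : ∀ b ∉ Set.range e, (x : Perm β) b = b) :
    extA e g = x := by
  refine Subtype.ext (Equiv.ext fun b => ?_)
  by_cases hb : b ∈ Set.range e
  · obtain ⟨a, rfl⟩ := hb
    rw [extA_apply, h1]
  · rw [extA_apply_of_notMem e g hb, h2 b hb]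

theorem extA_extA {γ : Type*} [Fintype γ] [DecidableEq γ] (e : α ↪ β) (e' : β ↪ γ) (g : alternatingGroup α) :
    extA e' (extA e g) = extA (e.trans e') g := by
  refine (extA_ext (fun a => ?_) fun c hc => ?_).symm
  · rw [Function.Embedding.trans_apply, Function.Embedding.trans_apply, extA_apply, extA_apply]
  · by_cases h : c ∈ Set.range e'
    · obtain ⟨b, rfl⟩ := h
      rw [extA_apply, extA_apply_of_notMem e g]
      rintro ⟨a, rfl⟩
      exact hc ⟨a, rfl⟩
    · exact extA_apply_of_notMem e' _ h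

theorem extA_comm {γ : Type*} [Fintype γ] [DecidableEq γ] (e : α ↪ γ) (e' : β ↪ γ)
    (hd : ∀ a b, e a ≠ e' b) (g : alternatingGroup α) (h : alternatingGroup β) :
    extA e g * extA e' h = extA e' h * extA e g := by
  refine Subtype.ext (Equiv.ext fun c => ?_)
  simp only [Subgroup.coe_mul, Perm.mul_apply]
  by_cases h1 : c ∈ Set.range e
  · obtain ⟨a, rfl⟩ := h1
    have hn : ∀ x, e x ∉ Set.range e' := fun x ⟨b, hb⟩ => hd x b hb.symm
    rw [extA_apply, extA_apply_of_notMem e' h (hn _), extA_apply_of_notMem e' h (hn _), extA_apply]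
  · rw [extA_apply_of_notMem e g h1]
    by_cases h2 : c ∈ Set.range e'
    · obtain ⟨b, rfl⟩ := h2
      rw [extA_apply, extA_apply_of_notMem e g]
      rintro ⟨a, ha⟩
      exact hd a _ ha
    · rw [extA_apply_of_notMem e' h h2, extA_apply_of_notMem e g h1]

theorem extA_cycA {ι κ : Type*} [Fintype ι] [DecidableEq ι] [Fintype κ] [DecidableEq κ] (e : ι ⊕ Fin 2 ↪ κ ⊕ Fin 2)
    (he : ∀ b, e (Sum.inr b) = Sum.inr b) {i : ι} {j : κ} (hij : e (Sum.inl i) = Sum.inl j) :
    extA e (cycA i) = cycA j := by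
  refine extA_ext (fun a => ?_) fun b hb => ?_
  · rw [cycA_coe, cycA_coe, cyc, cyc, ← he 0, ← he 1, ← hij]
    simp only [Perm.mul_apply, e.injective.swap_apply]
  · have hne : ∀ a, b ≠ e a := fun a h => hb ⟨a, h.symm⟩
    rw [cycA_coe, cyc, ← he 0, ← he 1, ← hij, Perm.mul_apply, swap_apply_of_ne_of_ne (hne _) (hne _),
      swap_apply_of_ne_of_ne (hne _) (hne _)]

end Ext

theorem commute_of_gens {P Q G : Type*} [Group P] [Group Q] [Group G] (φ : P →* G) (ψ : Q →* G) {a b : P} {c d : Q}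
    (hab : Subgroup.closure ({a, b} : Set P) = ⊤) (hcd : Subgroup.closure ({c, d} : Set Q) = ⊤)
    (h : ∀ u ∈ ({a, b} : Set P), ∀ v ∈ ({c, d} : Set Q), φ u * ψ v = ψ v * φ u) (u : P) (v : Q) :
    φ u * ψ v = ψ v * φ u := by
  have h1 : ∀ u ∈ ({a, b} : Set P), ∀ v, φ u * ψ v = ψ v * φ u := by
    intro u hu v
    have hv : v ∈ (Subgroup.centralizer ({φ u} : Set G)).comap ψ := by
      refine (?_ : Subgroup.closure ({c, d} : Set Q) ≤ _) (hcd ▸ Subgroup.mem_top v)
      rw [Subgroup.closure_le]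
      exact fun w hw => Subgroup.mem_centralizer_singleton_iff.2 (h u hu w hw).symm
    exact (Subgroup.mem_centralizer_singleton_iff.1 hv).symm
  have hu : u ∈ (Subgroup.centralizer ({ψ v} : Set G)).comap φ := by
    refine (?_ : Subgroup.closure ({a, b} : Set P) ≤ _) (hab ▸ Subgroup.mem_top u)
    rw [Subgroup.closure_le]
    exact fun w hw => Subgroup.mem_centralizer_singleton_iff.2 (h1 w hw v)
  exact Subgroup.mem_centralizer_singleton_iff.1 hu

theorem pair_symm {G : Type*} [Group G] {x y : G} (h : (x * y) ^ 2 = 1) : (y * x) ^ 2 = 1 := by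
  have e : y * x = x⁻¹ * (x * y) * (x⁻¹)⁻¹ := by simp [mul_assoc]
  rw [e, conj_pow, h, mul_one, mul_inv_cancel]

section Gluing

variable (C A B : Type*) [Fintype C] [DecidableEq C] [Fintype A] [DecidableEq A] [Fintype B] [DecidableEq B]

/-- The inclusion of the first part. -/
abbrev embX : (C ⊕ A) ⊕ Fin 2 ↪ (C ⊕ (A ⊕ B)) ⊕ Fin 2 :=
  Function.Embedding.sumMap (Function.Embedding.sumMap (Function.Embedding.refl C) Function.Embedding.inl)
    (Function.Embedding.refl _)

/-- The inclusion of the second part. -/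
abbrev embY : (C ⊕ B) ⊕ Fin 2 ↪ (C ⊕ (A ⊕ B)) ⊕ Fin 2 :=
  Function.Embedding.sumMap (Function.Embedding.sumMap (Function.Embedding.refl C) Function.Embedding.inr)
    (Function.Embedding.refl _)

variable {C A B}

/-- The eleven gluing relations. -/
noncomputable def glueList {G : Type*} [Group G] (a₀ : A) (b₀ : B) (X : alternatingGroup ((C ⊕ A) ⊕ Fin 2) → G)
    (Y : alternatingGroup ((C ⊕ B) ⊕ Fin 2) → G) : List (G × G) :=
  let dX : C ⊕ Fin 2 ↪ (C ⊕ A) ⊕ Fin 2 :=
    Function.Embedding.sumMap Function.Embedding.inl (Function.Embedding.refl _)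
  let dY : C ⊕ Fin 2 ↪ (C ⊕ B) ⊕ Fin 2 :=
    Function.Embedding.sumMap Function.Embedding.inl (Function.Embedding.refl _)
  let pX : C ⊕ A ↪ (C ⊕ A) ⊕ Fin 2 := Function.Embedding.inl
  let pY : C ⊕ B ↪ (C ⊕ B) ⊕ Fin 2 := Function.Embedding.inl
  let qX : A ⊕ Fin 2 ↪ (C ⊕ A) ⊕ Fin 2 :=
    Function.Embedding.sumMap Function.Embedding.inr (Function.Embedding.refl _)
  let qY : B ⊕ Fin 2 ↪ (C ⊕ B) ⊕ Fin 2 :=
    Function.Embedding.sumMap Function.Embedding.inr (Function.Embedding.refl _)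
  let d₁ := (two_gen (C ⊕ Fin 2)).choose
  let d₂ := (two_gen (C ⊕ Fin 2)).choose_spec.choose
  let p₁ := (two_gen (C ⊕ A)).choose
  let p₂ := (two_gen (C ⊕ A)).choose_spec.choose
  let p₁' := (two_gen (C ⊕ B)).choose
  let p₂' := (two_gen (C ⊕ B)).choose_spec.choose
  let q₁ := (two_gen (A ⊕ Fin 2)).choose
  let q₂ := (two_gen (A ⊕ Fin 2)).choose_spec.choose
  let q₁' := (two_gen (B ⊕ Fin 2)).choose
  let q₂' := (two_gen (B ⊕ Fin 2)).choose_spec.choose
  [(X (extA dX d₁), Y (extA dY d₁)), (X (extA dX d₂), Y (extA dY d₂)),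
      (X (extA pX p₁) * Y (extA qY q₁'), Y (extA qY q₁') * X (extA pX p₁)),
      (X (extA pX p₁) * Y (extA qY q₂'), Y (extA qY q₂') * X (extA pX p₁)),
      (X (extA pX p₂) * Y (extA qY q₁'), Y (extA qY q₁') * X (extA pX p₂)),
      (X (extA pX p₂) * Y (extA qY q₂'), Y (extA qY q₂') * X (extA pX p₂)),
      (X (extA qX q₁) * Y (extA pY p₁'), Y (extA pY p₁') * X (extA qX q₁)),
      (X (extA qX q₁) * Y (extA pY p₂'), Y (extA pY p₂') * X (extA qX q₁)),
      (X (extA qX q₂) * Y (extA pY p₁'), Y (extA pY p₁') * X (extA qX q₂)),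
      (X (extA qX q₂) * Y (extA pY p₂'), Y (extA pY p₂') * X (extA qX q₂)),
      ((X (cycA (Sum.inr a₀)) * Y (cycA (Sum.inr b₀))) ^ 2, 1)]

theorem length_glueList {G : Type*} [Group G] (a₀ : A) (b₀ : B) (X : alternatingGroup ((C ⊕ A) ⊕ Fin 2) → G)
    (Y : alternatingGroup ((C ⊕ B) ⊕ Fin 2) → G) : (glueList a₀ b₀ X Y).length = 11 := rfl

theorem map_glueList {G H : Type*} [Group G] [Group H] (f : G →* H) (a₀ : A) (b₀ : B)
    (X : alternatingGroup ((C ⊕ A) ⊕ Fin 2) → G) (Y : alternatingGroup ((C ⊕ B) ⊕ Fin 2) → G) :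
    (glueList a₀ b₀ X Y).map (fun e => (f e.1, f e.2)) = glueList a₀ b₀ (fun g => f (X g)) (fun g => f (Y g)) := by
  simp [glueList]

theorem glue_gen : Subgroup.closure (Set.range (extA (embX C A B)) ∪ Set.range (extA (embY C A B))) = ⊤ := by
  let eX := embX C A B
  let eY := embY C A B
  rw [eq_top_iff, ← closure_cycA, Subgroup.closure_le]
  rintro _ ⟨(i | (i | i)), rfl⟩ <;> apply Subgroup.subset_closure
  · exact Or.inl ⟨cycA (Sum.inl i), extA_cycA eX (fun _ => rfl) rfl⟩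
  · exact Or.inl ⟨cycA (Sum.inr i), extA_cycA eX (fun _ => rfl) rfl⟩
  · exact Or.inr ⟨cycA (Sum.inr i), extA_cycA eY (fun _ => rfl) rfl⟩

theorem glue_sat (a₀ : A) (b₀ : B) :
    ∀ e ∈ glueList a₀ b₀ (extA (embX C A B)) (extA (embY C A B)), e.1 = e.2 := by
  let eX : (C ⊕ A) ⊕ Fin 2 ↪ (C ⊕ (A ⊕ B)) ⊕ Fin 2 :=
    Function.Embedding.sumMap (Function.Embedding.sumMap (Function.Embedding.refl C) Function.Embedding.inl)
      (Function.Embedding.refl _)
  let eY : (C ⊕ B) ⊕ Fin 2 ↪ (C ⊕ (A ⊕ B)) ⊕ Fin 2 :=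
    Function.Embedding.sumMap (Function.Embedding.sumMap (Function.Embedding.refl C) Function.Embedding.inr)
      (Function.Embedding.refl _)
  let dX : C ⊕ Fin 2 ↪ (C ⊕ A) ⊕ Fin 2 :=
    Function.Embedding.sumMap Function.Embedding.inl (Function.Embedding.refl _)
  let dY : C ⊕ Fin 2 ↪ (C ⊕ B) ⊕ Fin 2 :=
    Function.Embedding.sumMap Function.Embedding.inl (Function.Embedding.refl _)
  let pX : C ⊕ A ↪ (C ⊕ A) ⊕ Fin 2 := Function.Embedding.inl
  let pY : C ⊕ B ↪ (C ⊕ B) ⊕ Fin 2 := Function.Embedding.inl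
  let qX : A ⊕ Fin 2 ↪ (C ⊕ A) ⊕ Fin 2 :=
    Function.Embedding.sumMap Function.Embedding.inr (Function.Embedding.refl _)
  let qY : B ⊕ Fin 2 ↪ (C ⊕ B) ⊕ Fin 2 :=
    Function.Embedding.sumMap Function.Embedding.inr (Function.Embedding.refl _)
  obtain ⟨d₁, d₂, hd⟩ := two_gen (C ⊕ Fin 2)
  obtain ⟨p₁, p₂, hp⟩ := two_gen (C ⊕ A)
  obtain ⟨p₁', p₂', hp'⟩ := two_gen (C ⊕ B)
  obtain ⟨q₁, q₂, hq⟩ := two_gen (A ⊕ Fin 2)
  obtain ⟨q₁', q₂', hq'⟩ := two_gen (B ⊕ Fin 2)
  have hdd : ∀ g, extA eX (extA dX g) = extA eY (extA dY g) := fun g => by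
    rw [extA_extA, extA_extA, show dX.trans eX = dY.trans eY from Function.Embedding.ext fun x => by
      rcases x with x | x <;> rfl]
  have h1 : ∀ g h, extA eX (extA pX g) * extA eY (extA qY h) = extA eY (extA qY h) * extA eX (extA pX g) :=
    fun g h => by
      rw [extA_extA, extA_extA]
      refine extA_comm _ _ (fun a b => ?_) _ _
      rcases a with a | a <;> rcases b with b | b <;> simp [eX, eY, pX, qY, Function.Embedding.sumMap]
  have h2 : ∀ g h, extA eX (extA qX g) * extA eY (extA pY h) = extA eY (extA pY h) * extA eX (extA qX g) :=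
    fun g h => by
      rw [extA_extA, extA_extA]
      refine extA_comm _ _ (fun a b => ?_) _ _
      rcases a with a | a <;> rcases b with b | b <;> simp [eX, eY, qX, pY, Function.Embedding.sumMap]
  simp only [glueList, List.forall_mem_cons]
  refine ⟨hdd _, hdd _, h1 _ _, h1 _ _, h1 _ _, h1 _ _, h2 _ _, h2 _ _, h2 _ _, h2 _ _, ?_, by simp⟩
  rw [extA_cycA eX (j := Sum.inr (Sum.inl a₀)) (fun _ => rfl) rfl,
    extA_cycA eY (j := Sum.inr (Sum.inr b₀)) (fun _ => rfl) rfl]
  exact Subtype.ext (cyc_pair (by simp))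

theorem glue_bound (c₀ : C) (a₀ : A) (b₀ : B) {G : Type*} [Group G] (φ : alternatingGroup ((C ⊕ A) ⊕ Fin 2) →* G)
    (ψ : alternatingGroup ((C ⊕ B) ⊕ Fin 2) →* G) (hgen : Subgroup.closure (Set.range φ ∪ Set.range ψ) = ⊤)
    (hrel : ∀ e ∈ glueList a₀ b₀ φ ψ, e.1 = e.2) :
    Finite G ∧ Nat.card G ≤ Nat.card (alternatingGroup ((C ⊕ (A ⊕ B)) ⊕ Fin 2)) := by
  let eX : (C ⊕ A) ⊕ Fin 2 ↪ (C ⊕ (A ⊕ B)) ⊕ Fin 2 :=
    Function.Embedding.sumMap (Function.Embedding.sumMap (Function.Embedding.refl C) Function.Embedding.inl)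
      (Function.Embedding.refl _)
  let eY : (C ⊕ B) ⊕ Fin 2 ↪ (C ⊕ (A ⊕ B)) ⊕ Fin 2 :=
    Function.Embedding.sumMap (Function.Embedding.sumMap (Function.Embedding.refl C) Function.Embedding.inr)
      (Function.Embedding.refl _)
  let dX : C ⊕ Fin 2 ↪ (C ⊕ A) ⊕ Fin 2 :=
    Function.Embedding.sumMap Function.Embedding.inl (Function.Embedding.refl _)
  let dY : C ⊕ Fin 2 ↪ (C ⊕ B) ⊕ Fin 2 :=
    Function.Embedding.sumMap Function.Embedding.inl (Function.Embedding.refl _)
  let pX : C ⊕ A ↪ (C ⊕ A) ⊕ Fin 2 := Function.Embedding.inl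
  let pY : C ⊕ B ↪ (C ⊕ B) ⊕ Fin 2 := Function.Embedding.inl
  let qX : A ⊕ Fin 2 ↪ (C ⊕ A) ⊕ Fin 2 :=
    Function.Embedding.sumMap Function.Embedding.inr (Function.Embedding.refl _)
  let qY : B ⊕ Fin 2 ↪ (C ⊕ B) ⊕ Fin 2 :=
    Function.Embedding.sumMap Function.Embedding.inr (Function.Embedding.refl _)
  obtain ⟨d₁, d₂, hd⟩ := two_gen (C ⊕ Fin 2)
  obtain ⟨p₁, p₂, hp⟩ := two_gen (C ⊕ A)
  obtain ⟨p₁', p₂', hp'⟩ := two_gen (C ⊕ B)
  obtain ⟨q₁, q₂, hq⟩ := two_gen (A ⊕ Fin 2)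
  obtain ⟨q₁', q₂', hq'⟩ := two_gen (B ⊕ Fin 2)
  have hd := (two_gen (C ⊕ Fin 2)).choose_spec.choose_spec
  have hp := (two_gen (C ⊕ A)).choose_spec.choose_spec
  have hp' := (two_gen (C ⊕ B)).choose_spec.choose_spec
  have hq := (two_gen (A ⊕ Fin 2)).choose_spec.choose_spec
  have hq' := (two_gen (B ⊕ Fin 2)).choose_spec.choose_spec
  simp only [glueList, List.forall_mem_cons] at hrel
  obtain ⟨e1, e2, c11, c12, c21, c22, k11, k12, k21, k22, hab, -⟩ := hrel
  have hagree : ∀ g, φ (extA dX g) = ψ (extA dY g) := by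
    have := MonoidHom.eq_of_eqOn_dense (f := φ.comp (extA dX)) (g := ψ.comp (extA dY)) hd (by
      rintro x (rfl | rfl)
      · exact e1
      · exact e2)
    exact fun g => DFunLike.congr_fun this g
  have hc1 := commute_of_gens (φ.comp (extA pX)) (ψ.comp (extA qY)) hp hq' (by
    rintro u (rfl | rfl) v (rfl | rfl)
    exacts [c11, c12, c21, c22])
  have hc2 := commute_of_gens (φ.comp (extA qX)) (ψ.comp (extA pY)) hq hp' (by
    rintro u (rfl | rfl) v (rfl | rfl)
    exacts [k11, k12, k21, k22])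
  simp only [MonoidHom.comp_apply] at hc1 hc2
  let z : C ⊕ (A ⊕ B) → G := Sum.elim (fun c => φ (cycA (Sum.inl c)))
    (Sum.elim (fun a => φ (cycA (Sum.inr a))) (fun b => ψ (cycA (Sum.inr b))))
  have hzC : ∀ c, z (Sum.inl c) = ψ (cycA (Sum.inl c)) := fun c => by
    show φ (cycA (Sum.inl c)) = _
    rw [← extA_cycA dX (i := c) (j := Sum.inl c) (fun _ => rfl) rfl, hagree,
      extA_cycA dY (i := c) (j := Sum.inl c) (fun _ => rfl) rfl]
  have hzX : ∀ i : C ⊕ A, z (Sum.map id Sum.inl i) = φ (cycA i) := fun i => by rcases i with c | a <;> rfl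
  have hzY : ∀ i : C ⊕ B, z (Sum.map id Sum.inr i) = ψ (cycA i) := fun i => by
    rcases i with c | b
    · exact hzC c
    · rfl
  -- the mixed relations
  have hA : ∀ a, ∃ u : alternatingGroup (C ⊕ A),
      φ (extA pX u) * φ (cycA (Sum.inr a₀)) * (φ (extA pX u))⁻¹ = φ (cycA (Sum.inr a)) := by
    intro a
    rcases eq_or_ne a a₀ with rfl | hne
    · exact ⟨1, by simp⟩
    refine ⟨⟨swap (Sum.inr a) (Sum.inl c₀) * swap (Sum.inr a₀) (Sum.inl c₀), Perm.mem_alternatingGroup.2 (by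
      rw [Perm.sign_mul, Perm.sign_swap (by simp), Perm.sign_swap (by simp)]; rfl)⟩, ?_⟩
    rw [← map_inv, ← map_mul, ← map_mul]
    congr 1
    refine Subtype.ext (conj_cyc (fun b => extA_apply_of_notMem _ _ (by simp [pX])) ?_)
    exact (extA_apply pX _ (Sum.inr a₀)).trans (congrArg Sum.inl (by simp))
  have hB : ∀ b, ∃ u : alternatingGroup (C ⊕ B),
      ψ (extA pY u) * ψ (cycA (Sum.inr b₀)) * (ψ (extA pY u))⁻¹ = ψ (cycA (Sum.inr b)) := by
    intro b
    rcases eq_or_ne b b₀ with rfl | hne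
    · exact ⟨1, by simp⟩
    refine ⟨⟨swap (Sum.inr b) (Sum.inl c₀) * swap (Sum.inr b₀) (Sum.inl c₀), Perm.mem_alternatingGroup.2 (by
      rw [Perm.sign_mul, Perm.sign_swap (by simp), Perm.sign_swap (by simp)]; rfl)⟩, ?_⟩
    rw [← map_inv, ← map_mul, ← map_mul]
    congr 1
    refine Subtype.ext (conj_cyc (fun b => extA_apply_of_notMem _ _ (by simp [pY])) ?_)
    exact (extA_apply pY _ (Sum.inr b₀)).trans (congrArg Sum.inl (by simp))
  have hqY : ∀ b, cycA (Sum.inr b) = extA qY (cycA b) := fun b => (extA_cycA qY (fun _ => rfl) rfl).symm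
  have hqX : ∀ a, cycA (Sum.inr a) = extA qX (cycA a) := fun a => (extA_cycA qX (fun _ => rfl) rfl).symm
  have hmix : ∀ a b, (φ (cycA (Sum.inr a)) * ψ (cycA (Sum.inr b))) ^ 2 = 1 := by
    intro a b
    obtain ⟨u, hu⟩ := hA a
    obtain ⟨v, hv⟩ := hB b
    have hua : ψ (cycA (Sum.inr b₀)) = φ (extA pX u) * ψ (cycA (Sum.inr b₀)) * (φ (extA pX u))⁻¹ := by
      rw [hqY, hc1, mul_inv_cancel_right]
    have hab' : (φ (cycA (Sum.inr a)) * ψ (cycA (Sum.inr b₀))) ^ 2 = 1 := by
      rw [hua, ← hu]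
      simp only [← mul_assoc, inv_mul_cancel_right]
      rw [mul_assoc (φ (extA pX u)), conj_pow, hab, mul_one, mul_inv_cancel]
    have hvb : φ (cycA (Sum.inr a)) = ψ (extA pY v) * φ (cycA (Sum.inr a)) * (ψ (extA pY v))⁻¹ := by
      rw [hqX, ← hc2, mul_inv_cancel_right]
    rw [hvb, ← hv]
    simp only [← mul_assoc, inv_mul_cancel_right]
    rw [mul_assoc (ψ (extA pY v)), conj_pow, hab', mul_one, mul_inv_cancel]
  refine card_le z ?_ (fun i => ?_) (fun i j hij => ?_)
  · rw [eq_top_iff, ← hgen, Subgroup.closure_le]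
    rintro _ (⟨g, rfl⟩ | ⟨g, rfl⟩)
    · refine (?_ : Subgroup.closure (Set.range (cycA (ι := C ⊕ A))) ≤ (Subgroup.closure (Set.range z)).comap φ)
        (by rw [closure_cycA]; trivial)
      rw [Subgroup.closure_le]
      rintro _ ⟨i, rfl⟩
      exact Subgroup.subset_closure ⟨_, hzX i⟩
    · refine (?_ : Subgroup.closure (Set.range (cycA (ι := C ⊕ B))) ≤ (Subgroup.closure (Set.range z)).comap ψ)
        (by rw [closure_cycA]; trivial)
      rw [Subgroup.closure_le]
      rintro _ ⟨i, rfl⟩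
      exact Subgroup.subset_closure ⟨_, hzY i⟩
  · have h3X : ∀ k : C ⊕ A, φ (cycA k) ^ 3 = 1 := fun k => by
      rw [← map_pow, show cycA k ^ 3 = 1 from Subtype.ext (cyc_pow_three k), map_one]
    have h3Y : ∀ k : C ⊕ B, ψ (cycA k) ^ 3 = 1 := fun k => by
      rw [← map_pow, show cycA k ^ 3 = 1 from Subtype.ext (cyc_pow_three k), map_one]
    rcases i with c | a | b
    exacts [h3X _, h3X _, h3Y _]
  · have h2X : ∀ k l : C ⊕ A, k ≠ l → (φ (cycA k) * φ (cycA l)) ^ 2 = 1 := fun k l h => by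
      rw [← map_mul, ← map_pow, show (cycA k * cycA l) ^ 2 = 1 from Subtype.ext (cyc_pair h), map_one]
    have h2Y : ∀ k l : C ⊕ B, k ≠ l → (ψ (cycA k) * ψ (cycA l)) ^ 2 = 1 := fun k l h => by
      rw [← map_mul, ← map_pow, show (cycA k * cycA l) ^ 2 = 1 from Subtype.ext (cyc_pair h), map_one]
    rcases i with c | a | b <;> rcases j with c' | a' | b'
    · exact h2X _ _ (by simpa using hij)
    · exact h2X _ _ (by simp)
    · rw [hzC]; exact h2Y _ _ (by simp)
    · exact h2X _ _ (by simp)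
    · exact h2X _ _ (by simpa using hij)
    · exact hmix a b'
    · rw [hzC]; exact h2Y _ _ (by simp)
    · exact pair_symm (hmix a' b)
    · exact h2Y _ _ (by simpa using hij)

/-- Two alternating groups glued along their common part. -/
theorem bdd_glue {r : ℕ} (c₀ : C) (a₀ : A) (b₀ : B) (hX : Bdd (alternatingGroup ((C ⊕ A) ⊕ Fin 2)) r)
    (hY : Bdd (alternatingGroup ((C ⊕ B) ⊕ Fin 2)) r) :
    Bdd (alternatingGroup ((C ⊕ (A ⊕ B)) ⊕ Fin 2)) (r + r + 11) := by
  classical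
  set L := glueList a₀ b₀
    (fun g => (FreeGroup.of (Sum.inl g) : FreeGroup (alternatingGroup ((C ⊕ A) ⊕ Fin 2) ⊕ alternatingGroup ((C ⊕ B) ⊕ Fin 2))))
    (fun g => FreeGroup.of (Sum.inr g)) with hLdef
  refine (hX.combine hY (extA (embX C A B)) (extA (embY C A B)) glue_gen L ?_ ?_).mono
    (by rw [hLdef, length_glueList])
  · intro e he
    have hm : (FreeGroup.lift (Sum.elim (extA (embX C A B)) (extA (embY C A B))) e.1,
        FreeGroup.lift (Sum.elim (extA (embX C A B)) (extA (embY C A B))) e.2) ∈ L.map (fun e =>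
        (FreeGroup.lift (Sum.elim (extA (embX C A B)) (extA (embY C A B))) e.1,
          FreeGroup.lift (Sum.elim (extA (embX C A B)) (extA (embY C A B))) e.2)) := List.mem_map.2 ⟨e, he, rfl⟩
    rw [hLdef, map_glueList] at hm
    simp only [FreeGroup.lift_apply_of, Sum.elim_inl, Sum.elim_inr] at hm
    exact glue_sat a₀ b₀ _ hm
  · intro G _ φ ψ hgen hr
    refine glue_bound c₀ a₀ b₀ φ ψ hgen fun e he => ?_
    have h : e ∈ L.map (fun e => (FreeGroup.lift (Sum.elim φ ψ) e.1, FreeGroup.lift (Sum.elim φ ψ) e.2)) := by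
      rw [hLdef, map_glueList]
      simpa only [FreeGroup.lift_apply_of, Sum.elim_inl, Sum.elim_inr] using he
    obtain ⟨d, hd, rfl⟩ := List.mem_map.1 h
    exact hr d hd

end Gluing

/-- Few points. -/
theorem bddG_small (k : ℕ) :
    BddG (alternatingGroup (Fin (k + 2))) k (k + k * k) := by
  classical
  obtain ⟨f, -⟩ := nonempty_congr (finSumFinEquiv (m := k) (n := 2))
  suffices h : BddG (alternatingGroup (Fin k ⊕ Fin 2)) k (k + k * k) from h.of_equiv f
  let E : List (FreeGroup (Fin k) × FreeGroup (Fin k)) :=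
    ((List.finRange k).map fun i => (FreeGroup.of i ^ 3, 1)) ++
      ((List.finRange k) ×ˢ (List.finRange k)).map
        (fun ij => if ij.1 = ij.2 then (1, 1) else ((FreeGroup.of ij.1 * FreeGroup.of ij.2) ^ 2, 1))
  have hlen : E.length ≤ k + k * k := by simp [E, List.length_product]
  refine Exists.imp (fun R hR => ⟨hR.1.trans hlen, hR.2⟩)
    (Three.present_fin E (cycA (ι := Fin k)) ?_ closure_cycA (fun P _ o _ ho _ hr => ?_))
  · intro e he
    simp only [E, List.mem_append, List.mem_map] at he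
    rcases he with ⟨i, -, rfl⟩ | ⟨⟨i, j⟩, -, rfl⟩
    · simp only [map_pow, map_one, FreeGroup.lift_apply_of]
      exact Subtype.ext (cyc_pow_three i)
    · dsimp only
      split_ifs with h
      · rfl
      · simp only [map_pow, map_mul, map_one, FreeGroup.lift_apply_of]
        exact Subtype.ext (cyc_pair h)
  · refine card_le o ho (fun i => ?_) (fun i j hij => ?_)
    · have := hr (FreeGroup.of i ^ 3, 1) (List.mem_append_left _ (List.mem_map.2 ⟨i, List.mem_finRange i, rfl⟩))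
      simpa using this
    · have := hr ((FreeGroup.of i * FreeGroup.of j) ^ 2, 1) (List.mem_append_right _
        (List.mem_map.2 ⟨(i, j), List.pair_mem_product.2 ⟨List.mem_finRange i, List.mem_finRange j⟩, if_neg hij⟩))
      simpa using this

theorem bdd_small (k : ℕ) : Bdd (alternatingGroup (Fin (k + 2))) (k + k * k) := (bddG_small k).bdd

/-- Every alternating group has a presentation with at most `41` relators. -/
theorem bdd_alt (n : ℕ) : Bdd (alternatingGroup (Fin n)) 41 := by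
  classical
  rcases Nat.lt_or_ge n 6 with hsmall | hbig
  · rcases Nat.lt_or_ge n 2 with h2 | h2
    · haveI : Subsingleton (Fin n) := Fin.subsingleton_iff_le_one.2 (by omega)
      exact (Bdd.of_gen (1 : alternatingGroup (Fin n)) (eq_top_iff.2 fun g _ => by
        rw [show g = 1 from Subtype.ext (Subsingleton.elim _ _)]; exact one_mem _)).mono (by norm_num)
    · obtain ⟨k, rfl⟩ := Nat.exists_eq_add_of_le h2
      rw [Nat.add_comm]
      exact (bdd_small k).mono (by
        have : k * k ≤ 3 * 3 := Nat.mul_le_mul (by omega) (by omega)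
        omega)
  obtain ⟨p, hpr, hp2, hlo, hhi⟩ : ∃ p, p.Prime ∧ p ≠ 2 ∧ p + 3 ≤ n ∧ n ≤ 2 * p + 3 := by
    rcases eq_or_lt_of_le hbig with rfl | h7
    · exact ⟨3, Nat.prime_three, by norm_num, le_rfl, by norm_num⟩
    · obtain ⟨p, hpr, h1, h2⟩ := Nat.exists_prime_lt_and_le_two_mul ((n - 3) / 2) (by omega)
      exact ⟨p, hpr, by omega, by omega, by omega⟩
  haveI : Fact p.Prime := ⟨hpr⟩
  rcases eq_or_lt_of_le hlo with rfl | hlt
  · exact (bdd_line p hp2).mono (by norm_num)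
  obtain ⟨d, hd, hd0⟩ : ∃ d, n = p + 3 + d ∧ 0 < d := ⟨n - (p + 3), by omega, by omega⟩
  have hline : ∀ (T : Type) [Fintype T] [DecidableEq T], Fintype.card T = p + 3 → Bdd (alternatingGroup T) 15 :=
    fun T _ _ hT => by
      obtain ⟨f, -⟩ := nonempty_congr (Fintype.equivFinOfCardEq hT).symm
      exact (bdd_line p hp2).of_equiv f
  have h := bdd_glue (C := Fin (p + 1 - d)) (A := Fin d) (B := Fin d) ⟨0, by omega⟩ ⟨0, hd0⟩ ⟨0, hd0⟩
    (hline _ (by simp only [Fintype.card_sum, Fintype.card_fin]; omega))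
    (hline _ (by simp only [Fintype.card_sum, Fintype.card_fin]; omega))
  obtain ⟨f, -⟩ := nonempty_congr (Fintype.equivFinOfCardEq
    (show Fintype.card ((Fin (p + 1 - d) ⊕ (Fin d ⊕ Fin d)) ⊕ Fin 2) = n by
      simp only [Fintype.card_sum, Fintype.card_fin]; omega))
  exact h.of_equiv f

end Cfsg.Lib.Linear.ShortPres.Alt
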