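import Cfsg.Agent.Lib.Linear.ShortPres.Alt.Glue

/-!
# Alternating groups from one half and a conjugating element
-/

set_option autoImplicit false

namespace Cfsg.Lib.Linear.ShortPres

/-- One more generator at the cost of one relator. -/
theorem BddG.pad {M : Type*} [Group M] [Finite M] {k r : ℕ} (h : BddG M k r) (j : ℕ) : BddG M (k + j) (r + j) := by
  induction j with
  | zero => exact h
  | succ j ih =>
    have hbot : BddG (⊥ : Subgroup M) 1 1 := Bdd.of_gen_one 1 (eq_top_iff.2 fun g _ => by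
      rw [Subsingleton.elim g 1]; exact one_mem _)
    refine ((ih.combine hbot (MonoidHom.id M) 1 ?_ [] (by simp) ?_).mono (le_of_eq (by simp [Nat.add_assoc])))
    · exact eq_top_iff.2 fun g _ => Subgroup.subset_closure (Or.inl ⟨g, rfl⟩)
    · intro G _ A B hgen _
      have hs : Function.Surjective A := by
        rw [← MonoidHom.range_eq_top, eq_top_iff, ← hgen, Subgroup.closure_le]
        rintro _ (⟨c, rfl⟩ | ⟨c, rfl⟩)
        · exact ⟨c, rfl⟩
        · rw [Subsingleton.elim c 1, map_one]; exact one_mem _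
      exact ⟨Finite.of_surjective A hs, Nat.card_le_card_of_surjective A hs⟩

/-- A free cyclic group needs no relator. -/
theorem BddG.free : BddG (FreeGroup (Fin 1)) 1 0 :=
  ⟨∅, le_rfl, ⟨MonoidHom.toMulEquiv (PresentedGroup.toGroup (f := FreeGroup.of) (by simp)) (PresentedGroup.mk _)
    (PresentedGroup.ext fun i => by
      show PresentedGroup.mk _ (PresentedGroup.toGroup _ (PresentedGroup.of i)) = PresentedGroup.of i
      rw [PresentedGroup.toGroup.of]; rfl)
    (FreeGroup.ext_hom _ _ fun i => by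
      simp only [MonoidHom.comp_apply, MonoidHom.id_apply]
      exact PresentedGroup.toGroup.of _)⟩⟩

namespace Alt

open Equiv

variable {C A : Type*} [Fintype C] [DecidableEq C] [Fintype A] [DecidableEq A]

/-- Two equal halves are exchanged by an element of the group. -/
theorem bddG_double {k r : ℕ} (c₀ : C) (a₀ : A) (hX : BddG (alternatingGroup ((C ⊕ A) ⊕ Fin 2)) k r) :
    BddG (alternatingGroup ((C ⊕ (A ⊕ A)) ⊕ Fin 2)) (k + 1) (r + 12) := by
  classical
  obtain ⟨σ, hσ⟩ : ∃ σ : Perm (Fin 2),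
      Perm.sign (Perm.sumCongr (Perm.sumCongr (1 : Perm C) (Equiv.sumComm A A)) σ) = 1 := by
    rcases Int.units_eq_one_or (Perm.sign (Equiv.sumComm A A : Perm (A ⊕ A))) with h | h
    · exact ⟨1, by simp [Perm.sign_sumCongr, h]⟩
    · exact ⟨swap 0 1, by simp [Perm.sign_sumCongr, h]⟩
  let t : alternatingGroup ((C ⊕ (A ⊕ A)) ⊕ Fin 2) :=
    ⟨Perm.sumCongr (Perm.sumCongr (1 : Perm C) (Equiv.sumComm A A)) σ, Perm.mem_alternatingGroup.2 hσ⟩
  let s : Perm ((C ⊕ A) ⊕ Fin 2) := Perm.sumCongr 1 σ⁻¹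
  let θ : alternatingGroup ((C ⊕ A) ⊕ Fin 2) →* alternatingGroup ((C ⊕ A) ⊕ Fin 2) :=
    MonoidHom.mk' (fun g => ⟨s * g.1 * s⁻¹, Perm.mem_alternatingGroup.2 (by
      rw [map_mul, map_mul, Perm.mem_alternatingGroup.1 g.2, mul_one, map_inv, mul_inv_cancel])⟩)
      fun a b => Subtype.ext (by simp [mul_assoc])
  have hts : ∀ x, t.1 (embX C A A (s x)) = embY C A A x := by
    rintro ((c | a) | b) <;> simp [t, s, embX, embY]
  have hY : ∀ g, extA (embY C A A) g = t * extA (embX C A A) (θ g) * t⁻¹ := fun g => by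
    refine extA_ext (fun x => ?_) fun b hb => ?_
    · simp only [Subgroup.coe_mul, Subgroup.coe_inv, Perm.mul_apply]
      rw [Perm.inv_eq_iff_eq.2 (hts x).symm, extA_apply, ← hts (g.1 x)]
      simp [θ]
    · simp only [Subgroup.coe_mul, Subgroup.coe_inv, Perm.mul_apply]
      rw [extA_apply_of_notMem]
      · simp
      rintro ⟨x, hx⟩
      refine hb ⟨s⁻¹ x, ?_⟩
      rw [← hts]
      simp [hx]
  have hYeq : (fun g => t * extA (embX C A A) (θ g) * t⁻¹) = ⇑(extA (embY C A A)) := funext fun g => (hY g).symm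
  have htmem : t ∈ Subgroup.closure (Set.range (extA (embX C A A)) ∪ Set.range (extA (embY C A A))) := by
    rw [glue_gen]; trivial
  let e : alternatingGroup ((C ⊕ A) ⊕ Fin 2) ⊕ alternatingGroup ((C ⊕ A) ⊕ Fin 2) →
      alternatingGroup ((C ⊕ (A ⊕ A)) ⊕ Fin 2) := Sum.elim (extA (embX C A A)) (extA (embY C A A))
  obtain ⟨W, hW⟩ : ∃ W : FreeGroup (alternatingGroup ((C ⊕ A) ⊕ Fin 2) ⊕ alternatingGroup ((C ⊕ A) ⊕ Fin 2)),
      FreeGroup.lift e W = t := by
    have : t ∈ (FreeGroup.lift e).range := by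
      rw [FreeGroup.range_lift_eq_closure, show Set.range e = _ from Set.Sum.elim_range _ _]
      exact htmem
    exact this
  let O : alternatingGroup ((C ⊕ A) ⊕ Fin 2) ⊕ FreeGroup (Fin 1) →
      FreeGroup (alternatingGroup ((C ⊕ A) ⊕ Fin 2) ⊕ FreeGroup (Fin 1)) := FreeGroup.of
  let T := O (Sum.inr (FreeGroup.of 0))
  let X : alternatingGroup ((C ⊕ A) ⊕ Fin 2) →
      FreeGroup (alternatingGroup ((C ⊕ A) ⊕ Fin 2) ⊕ FreeGroup (Fin 1)) := fun g => O (Sum.inl g)
  let Y : alternatingGroup ((C ⊕ A) ⊕ Fin 2) →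
      FreeGroup (alternatingGroup ((C ⊕ A) ⊕ Fin 2) ⊕ FreeGroup (Fin 1)) := fun g => T * X (θ g) * T⁻¹
  set L := glueList a₀ a₀ X Y ++ [(T, FreeGroup.lift (Sum.elim X Y) W)] with hLdef
  let ι₂ : FreeGroup (Fin 1) →* alternatingGroup ((C ⊕ (A ⊕ A)) ⊕ Fin 2) := FreeGroup.lift fun _ => t
  refine (hX.combine BddG.free (extA (embX C A A)) ι₂ ?_ L ?_ ?_).mono
    (by rw [hLdef, List.length_append, length_glueList, List.length_singleton])
  · rw [eq_top_iff, ← glue_gen (C := C) (A := A) (B := A), Subgroup.closure_le]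
    rintro _ (⟨g, rfl⟩ | ⟨g, rfl⟩)
    · exact Subgroup.subset_closure (Or.inl ⟨g, rfl⟩)
    · rw [hY]
      have ht : t ∈ Subgroup.closure (Set.range (extA (embX C A A)) ∪ Set.range ι₂) :=
        Subgroup.subset_closure (Or.inr ⟨FreeGroup.of 0, by simp [ι₂]⟩)
      exact mul_mem (mul_mem ht (Subgroup.subset_closure (Or.inl ⟨θ g, rfl⟩))) (inv_mem ht)
  · set Θ := FreeGroup.lift (Sum.elim (extA (embX C A A)) ι₂) with hΘ
    have hX' : (fun g => Θ (X g)) = extA (embX C A A) := funext fun g => by simp [hΘ, X, O]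
    have hY' : (fun g => Θ (Y g)) = extA (embY C A A) := by
      rw [← hYeq]
      funext g
      simp [hΘ, X, Y, T, O, ι₂]
    have hsum : Θ.comp (FreeGroup.lift (Sum.elim X Y)) = FreeGroup.lift e :=
      FreeGroup.ext_hom _ _ fun c => by
        rcases c with g | g
        · simpa [e] using congrFun hX' g
        · simpa [e] using congrFun hY' g
    intro d hd
    rw [hLdef, List.mem_append, List.mem_singleton] at hd
    rcases hd with hd | rfl
    · have hm : (Θ d.1, Θ d.2) ∈ (glueList a₀ a₀ X Y).map (fun e => (Θ e.1, Θ e.2)) := List.mem_map.2 ⟨d, hd, rfl⟩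
      rw [map_glueList, hX', hY'] at hm
      exact glue_sat a₀ a₀ _ hm
    · show Θ T = Θ (FreeGroup.lift (Sum.elim X Y) W)
      rw [← MonoidHom.comp_apply Θ, hsum, hW]
      simp [hΘ, T, O, ι₂]
  · intro G _ φ B hgen hr
    set Θ := FreeGroup.lift (Sum.elim φ B) with hΘ
    let ψ : alternatingGroup ((C ⊕ A) ⊕ Fin 2) →* G := (MulAut.conj (B (FreeGroup.of 0))).toMonoidHom.comp (φ.comp θ)
    have hX' : (fun g => Θ (X g)) = φ := funext fun g => by simp [hΘ, X, O]
    have hY' : (fun g => Θ (Y g)) = ψ := funext fun g => by simp [hΘ, X, Y, T, O, ψ]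
    have hsum : Θ.comp (FreeGroup.lift (Sum.elim X Y)) = FreeGroup.lift (Sum.elim φ ψ) :=
      FreeGroup.ext_hom _ _ fun c => by
        rcases c with g | g
        · simpa using congrFun hX' g
        · simpa using congrFun hY' g
    have ht : B (FreeGroup.of 0) ∈ Subgroup.closure (Set.range φ ∪ Set.range ψ) := by
      have h := hr (T, FreeGroup.lift (Sum.elim X Y) W) (List.mem_append_right _ (List.mem_singleton.2 rfl))
      simp only at h
      change Θ T = Θ _ at h
      rw [← MonoidHom.comp_apply Θ, hsum] at h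
      have h2 : FreeGroup.lift (Sum.elim φ ψ) W ∈ (FreeGroup.lift (Sum.elim φ ψ)).range := ⟨W, rfl⟩
      rw [FreeGroup.range_lift_eq_closure, Set.Sum.elim_range, ← h] at h2
      simpa [hΘ, T, O] using h2
    refine glue_bound c₀ a₀ a₀ φ ψ ?_ fun e he => ?_
    · rw [eq_top_iff, ← hgen, Subgroup.closure_le]
      rintro _ (⟨g, rfl⟩ | ⟨w, rfl⟩)
      · exact Subgroup.subset_closure (Or.inl ⟨g, rfl⟩)
      · have : w ∈ (Subgroup.closure (Set.range φ ∪ Set.range ψ)).comap B := by
          refine (?_ : Subgroup.closure (Set.range (FreeGroup.of : Fin 1 → FreeGroup (Fin 1))) ≤ _)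
            (by rw [FreeGroup.closure_range_of]; trivial)
          rw [Subgroup.closure_le]
          rintro _ ⟨i, rfl⟩
          rw [Subsingleton.elim i 0]
          exact ht
        exact this
    · rw [← hX', ← hY', ← map_glueList] at he
      obtain ⟨d, hd, rfl⟩ := List.mem_map.1 he
      exact hr d (List.mem_append_left _ hd)

/-- Every alternating group of degree at least six. -/
theorem bddG_alt {n : ℕ} (hn : 6 ≤ n) : BddG (alternatingGroup (Fin n)) 5 27 := by
  classical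
  obtain ⟨p, hpr, hp2, hlo, hhi⟩ : ∃ p, p.Prime ∧ p ≠ 2 ∧ p + 3 ≤ n ∧ n ≤ 2 * p + 3 := by
    rcases eq_or_lt_of_le hn with rfl | h7
    · exact ⟨3, Nat.prime_three, by norm_num, le_rfl, by norm_num⟩
    · obtain ⟨p, hpr, h1, h2⟩ := Nat.exists_prime_lt_and_le_two_mul ((n - 3) / 2) (by omega)
      exact ⟨p, hpr, by omega, by omega, by omega⟩
  haveI : Fact p.Prime := ⟨hpr⟩
  rcases eq_or_lt_of_le hlo with rfl | hlt
  · exact ((bddG_line p hp2).pad 1).mono (by norm_num)
  obtain ⟨d, hd, hd0⟩ : ∃ d, n = p + 3 + d ∧ 0 < d := ⟨n - (p + 3), by omega, by omega⟩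
  obtain ⟨f₁, -⟩ := nonempty_congr (Fintype.equivFinOfCardEq
    (show Fintype.card ((Fin (p + 1 - d) ⊕ Fin d) ⊕ Fin 2) = p + 3 by
      simp only [Fintype.card_sum, Fintype.card_fin]; omega)).symm
  have h := bddG_double (C := Fin (p + 1 - d)) (A := Fin d) ⟨0, by omega⟩ ⟨0, hd0⟩
    ((bddG_line p hp2).of_equiv f₁)
  obtain ⟨f, -⟩ := nonempty_congr (Fintype.equivFinOfCardEq
    (show Fintype.card ((Fin (p + 1 - d) ⊕ (Fin d ⊕ Fin d)) ⊕ Fin 2) = n by
      simp only [Fintype.card_sum, Fintype.card_fin]; omega))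
  exact h.of_equiv f

end Alt

end Cfsg.Lib.Linear.ShortPres
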