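import Cfsg.Agent.Lib.Linear.ShortPres.Alt.Doubly
import Cfsg.Agent.S2286

/-!
# The alternating group on the projective line and two further points
-/

set_option autoImplicit false

namespace Cfsg.Lib.Linear.ShortPres.Alt

open Equiv Matrix
open scoped MatrixGroups

/-- Lower left entry zero. -/
def upper (F : Type*) [Field F] : Subgroup SL(2, F) where
  carrier := {γ | γ.1 1 0 = 0}
  one_mem' := by simp
  mul_mem' := fun {a b} ha hb => by
    simp only [Set.mem_setOf_eq] at ha hb ⊢
    simp [Matrix.SpecialLinearGroup.coe_mul, Matrix.mul_apply, Fin.sum_univ_two, ha, hb]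
  inv_mem' := fun {a} ha => by
    simp only [Set.mem_setOf_eq] at ha ⊢
    simp [Matrix.SpecialLinearGroup.coe_inv, Matrix.adjugate_fin_two, ha]

variable (p : ℕ) [Fact p.Prime]

theorem bddG_line (hp : p ≠ 2) : BddG (alternatingGroup (Fin (p + 3))) 4 15 := by
  classical
  haveI : CharP (ZMod p) p := ZMod.charP p
  have hpr : p.Prime := Fact.out
  set F := ZMod p
  set B := upper F with hBdef
  haveI : Fintype (SL(2, F) ⧸ B) := Fintype.ofFinite _
  obtain ⟨⟨R, hR, he⟩, -, -⟩ := Cfsg.Agent.S2286.result (F := F)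
  have hΓ : BddG SL(2, F) 3 9 := ⟨R, hR, he⟩
  have hbase : ∀ c : F, xs c = xs 1 ^ c.val := fun c => by
    rw [← xs_nsmul, ZMod.natCast_zmod_val, mul_one]
  have hord : ∀ c : F, xs c ^ p = (1 : SL(2, F)) := fun c => by
    rw [← xs_nsmul, ZMod.natCast_self, zero_mul, xs_zero]
  have htop : ∀ W : Subgroup SL(2, F), xs 1 ∈ W → ts ∈ W → W = ⊤ := fun W h1 h2 =>
    closure_gens (fun c => hbase c ▸ pow_mem h1 _) h2
  have heven : ∀ γ : SL(2, F), Perm.sign (MulAction.toPermHom SL(2, F) (SL(2, F) ⧸ B) γ) = 1 := by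
    set χ := Perm.sign.comp (MulAction.toPermHom SL(2, F) (SL(2, F) ⧸ B))
    have hodd : ∀ γ : SL(2, F), γ ^ p = 1 → χ γ = 1 := fun γ hγ => by
      rcases Int.units_eq_one_or (χ γ) with h | h
      · exact h
      · have := congrArg χ hγ
        rw [map_pow, map_one, h, Odd.neg_one_pow (hpr.odd_of_ne_two hp)] at this
        exact absurd this (by decide)
    have hker : χ.ker = ⊤ := by
      have hy : (ts * xs (-1) * ts⁻¹ : SL(2, F)) ^ p = 1 := by rw [conj_pow, hord, mul_one, mul_inv_cancel]
      refine htop _ (hodd _ (hord 1)) ?_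
      have hts : (ts : SL(2, F)) = xs 1 * (ts * xs 1 * ts⁻¹) * xs 1 := by
        have h := ts_conj_xs (1 : (F)ˣ)
        rw [inv_one, ds_one, mul_one, Units.val_one] at h
        rw [h, xs_neg]; simp [mul_assoc]
      have h1 : χ (xs 1) = 1 := hodd _ (hord 1)
      show χ ts = 1
      have h2 : χ (ts * xs 1 * ts⁻¹) = 1 := by rw [map_mul, map_mul, map_inv, h1, mul_one, mul_inv_cancel]
      rw [hts, map_mul, map_mul, h1, h2, mul_one, mul_one]
    exact fun γ => by
      have h : γ ∈ χ.ker := by rw [hker]; trivial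
      exact h
  have hmem : ∀ γ : SL(2, F), γ • (QuotientGroup.mk 1 : SL(2, F) ⧸ B) = QuotientGroup.mk 1 ↔ γ ∈ B := fun γ => by
    rw [MulAction.Quotient.smul_mk, smul_eq_mul, mul_one, QuotientGroup.eq, mul_one]
    exact inv_mem_iff
  have hpt : ∀ γ : SL(2, F), γ ∉ B → ∃ c : F, (QuotientGroup.mk γ : SL(2, F) ⧸ B) = QuotientGroup.mk (xs c * ts) := by
    intro γ hγ
    have hc : γ.1 1 0 ≠ 0 := hγ
    refine ⟨γ.1 0 0 / γ.1 1 0, QuotientGroup.eq.2 ?_⟩
    show (γ⁻¹ * (xs (γ.1 0 0 / γ.1 1 0) * ts) : SL(2, F)).1 1 0 = 0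
    simp [Matrix.SpecialLinearGroup.coe_mul, Matrix.SpecialLinearGroup.coe_inv, Matrix.adjugate_fin_two, xs_coe,
      ts_coe, Matrix.mul_apply, Fin.sum_univ_two]
    linear_combination div_mul_cancel₀ (γ.1 0 0) hc
  have hts : (ts : SL(2, F)) ∉ B := fun h => by
    have : (ts : SL(2, F)).1 1 0 = 0 := h
    simp [ts_coe] at this
  have hxsB : ∀ c : F, xs c ∈ B := fun c => by show (xs c).1 1 0 = 0; simp [xs_coe]
  obtain ⟨ζ, hζ⟩ := IsCyclic.exists_generator (α := Fˣ)
  have hdsB : ds ζ ∈ B := by show (ds ζ).1 1 0 = 0; simp [ds_coe]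
  have h := bddG_of_doubly hΓ (QuotientGroup.mk 1 : SL(2, F) ⧸ B) (fun i => by
      induction i using QuotientGroup.induction_on with
      | H γ => exact ⟨γ, by rw [MulAction.Quotient.smul_mk, smul_eq_mul, mul_one]⟩)
    (QuotientGroup.mk ts) (fun h => hts (by
      have := QuotientGroup.eq.1 h
      rw [mul_one] at this
      exact inv_mem_iff.1 this))
    (fun i hi => by
      induction i using QuotientGroup.induction_on with
      | H γ =>
        have hγ : γ ∉ B := fun h => hi (QuotientGroup.eq.2 (by rw [mul_one]; exact inv_mem h))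
        obtain ⟨c, hc⟩ := hpt γ hγ
        exact ⟨xs c, (hmem _).2 (hxsB c), by rw [MulAction.Quotient.smul_mk, smul_eq_mul, hc]⟩)
    heven [xs 1, ds ζ] (fun γ hγ => by
      have hB : γ.1 1 0 = 0 := (hmem γ).1 hγ
      set W := Subgroup.closure {σ : SL(2, F) | σ ∈ [xs 1, ds ζ]}
      have hx : xs (1 : F) ∈ W := Subgroup.subset_closure (by simp)
      have hd : ds ζ ∈ W := Subgroup.subset_closure (by simp)
      have hdet := γ.2
      rw [Matrix.det_fin_two, hB, mul_zero, sub_zero] at hdet
      have ha : γ.1 0 0 ≠ 0 := left_ne_zero_of_mul_eq_one hdet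
      obtain ⟨i, hi⟩ := mem_powers_iff_mem_zpowers.2 (hζ (Units.mk0 _ ha))
      have hi' : ζ ^ i = Units.mk0 _ ha := hi
      have hγe : γ = xs (γ.1 0 1 * γ.1 0 0) * ds ζ ^ i := by
        rw [← ds_pow, hi']
        ext a b
        fin_cases a <;> fin_cases b <;>
          simp [Matrix.SpecialLinearGroup.coe_mul, xs_coe, ds_coe, Matrix.mul_apply, Fin.sum_univ_two, hB, ha]
        · exact (@mul_inv_cancel_right₀ (ZMod p) _ (γ.1 0 0) ha _).symm
        · exact eq_inv_of_mul_eq_one_right hdet
      rw [hγe]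
      exact mul_mem (hbase _ ▸ pow_mem hx _) (pow_mem hd _))
    (fun σ hσ => by
      simp only [List.mem_cons, List.not_mem_nil, or_false] at hσ
      rcases hσ with rfl | rfl
      · exact (hmem _).2 (hxsB 1)
      · exact (hmem _).2 hdsB)
    [xs 1, ts] (htop _ (Subgroup.subset_closure (by simp)) (Subgroup.subset_closure (by simp)))
  have hcard : Fintype.card ((SL(2, F) ⧸ B) ⊕ Fin 2) = p + 3 := by
    have hb : Function.Bijective (fun o : Option F => (o.elim (QuotientGroup.mk 1) fun c => QuotientGroup.mk (xs c * ts) :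
        SL(2, F) ⧸ B)) := by
      refine ⟨?_, fun x => ?_⟩
      · intro o o' h
        have key : ∀ c : F, (QuotientGroup.mk (xs c * ts) : SL(2, F) ⧸ B) ≠ QuotientGroup.mk 1 := fun c h => by
          have := QuotientGroup.eq.1 h
          rw [mul_one, inv_mem_iff] at this
          exact hts (by simpa using mul_mem (inv_mem (hxsB c)) this)
        rcases o with _ | c <;> rcases o' with _ | c' <;> simp only [Option.elim] at h
        · rfl
        · exact absurd h.symm (key c')
        · exact absurd h (key c)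
        · have := QuotientGroup.eq.1 h
          have h0 : ((xs c * ts)⁻¹ * (xs c' * ts) : SL(2, F)).1 1 0 = 0 := this
          simp [Matrix.SpecialLinearGroup.coe_mul, Matrix.SpecialLinearGroup.coe_inv, Matrix.adjugate_fin_two,
            xs_coe, ts_coe, Matrix.mul_apply, Fin.sum_univ_two] at h0
          rw [Option.some_inj]
          linear_combination h0
      · induction x using QuotientGroup.induction_on with
        | H γ =>
          by_cases hγ : γ ∈ B
          · exact ⟨none, (QuotientGroup.eq.2 (by simpa using hγ)).symm.symm⟩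
          · obtain ⟨c, hc⟩ := hpt γ hγ
            exact ⟨some c, hc.symm⟩
    rw [Fintype.card_sum, ← Fintype.card_of_bijective hb, Fintype.card_option, ZMod.card, Fintype.card_fin]
  obtain ⟨f, -⟩ := nonempty_congr (Fintype.equivFinOfCardEq hcard)
  exact h.of_equiv f

theorem bdd_line (hp : p ≠ 2) : Bdd (alternatingGroup (Fin (p + 3))) 15 := (bddG_line p hp).bdd

end Cfsg.Lib.Linear.ShortPres.Alt
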